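import Cfsg.Agent.ClassicalGeometry.HermOrthonormal

/-!
# S4793, task FORM: hermitian forms on a field extension
-/

set_option autoImplicit false

namespace Cfsg.Agent.H118.CC

open Module Cfsg.Agent.ClassicalGeometry

section gen

variable {F : Type*} [Field F] [Finite F] {q : ℕ} {σ : F →+* F}

theorem sig_sig (hF : Nat.card F = q ^ 2) (hσ : ∀ a, σ a = a ^ q) (a : F) : σ (σ a) = a := by
  rw [hσ, hσ, ← pow_mul, ← sq, ← hF]
  have := Fintype.ofFinite F
  rw [Nat.card_eq_fintype_card, FiniteField.pow_card]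

theorem sig_ne (h2 : 2 ≤ q) (hF : Nat.card F = q ^ 2) (hσ : ∀ a, σ a = a ^ q) : σ ≠ RingHom.id F := by
  intro h0
  have := Fintype.ofFinite F
  obtain ⟨g, hg⟩ := IsCyclic.exists_generator (α := Fˣ)
  have h1 : g ^ (q - 1) = 1 := by
    have h2 : g ^ q = g := by
      ext
      rw [Units.val_pow_eq_pow_val, ← hσ, h0, RingHom.id_apply]
    have h3 : g ^ (q - 1) * g = g := by
      rw [← pow_succ]
      have : q - 1 + 1 = q := by omega
      rw [this, h2]
    exact mul_eq_right.mp h3
  have h4 : orderOf g = Nat.card Fˣ := orderOf_eq_card_of_forall_mem_zpowers hg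
  have h5 : Nat.card Fˣ = q ^ 2 - 1 := by
    rw [Nat.card_units, hF]
  have h6 : orderOf g ≤ q - 1 := orderOf_le_of_pow_eq_one (by omega) h1
  rw [h4, h5] at h6
  have h7 : 2 * q ≤ q ^ 2 := by rw [sq]; exact Nat.mul_le_mul_right q h2
  omega

omit [Finite F] in
/-- a hermitian form with given radical -/
theorem exists_form_ker {E : Type*} [AddCommGroup E] [Module F E] [Finite E] (hσσ : ∀ a, σ (σ a) = a)
    (R : Submodule F E) : ∃ C : E →ₛₗ[σ] E →ₗ[F] F, C.IsSymm ∧ LinearMap.ker C = R := by
  have hfin : Module.Finite F E := inferInstance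
  let c := Module.finBasis F (E ⧸ R)
  let π : E →ₗ[F] (E ⧸ R) := R.mkQ
  let C : E →ₛₗ[σ] E →ₗ[F] F := LinearMap.mk₂'ₛₗ σ (RingHom.id F)
    (fun x y => ∑ i, σ (c.repr (π x) i) * c.repr (π y) i)
    (fun x x' y => by
      rw [← Finset.sum_add_distrib]
      refine Finset.sum_congr rfl fun i _ => ?_
      rw [map_add, map_add, Finsupp.add_apply, map_add, add_mul])
    (fun a x y => by
      rw [smul_eq_mul, Finset.mul_sum]
      refine Finset.sum_congr rfl fun i _ => ?_
      rw [map_smul, map_smul, Finsupp.smul_apply, smul_eq_mul, map_mul, mul_assoc])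
    (fun x y y' => by
      rw [← Finset.sum_add_distrib]
      refine Finset.sum_congr rfl fun i _ => ?_
      rw [map_add, map_add, Finsupp.add_apply, mul_add])
    (fun a x y => by
      rw [RingHom.id_apply, smul_eq_mul, Finset.mul_sum]
      refine Finset.sum_congr rfl fun i _ => ?_
      rw [map_smul, map_smul, Finsupp.smul_apply, smul_eq_mul]
      ring)
  have hC : ∀ x y, C x y = ∑ i, σ (c.repr (π x) i) * c.repr (π y) i := fun _ _ => rfl
  refine ⟨C, ⟨fun x y => ?_⟩, ?_⟩
  · rw [hC, hC, map_sum]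
    refine Finset.sum_congr rfl fun i _ => ?_
    rw [map_mul, hσσ, mul_comm]
  · ext x
    rw [LinearMap.mem_ker]
    constructor
    · intro h
      have h1 : π x = 0 := by
        apply c.repr.injective
        ext j
        obtain ⟨y, hy⟩ := R.mkQ_surjective (c j)
        have h2 : C x y = 0 := by rw [h]; rfl
        rw [hC, show π y = c j from hy] at h2
        simp only [Basis.repr_self, Finsupp.single_apply, mul_ite, mul_one, mul_zero, Finset.sum_ite_eq,
          Finset.mem_univ, if_true] at h2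
        rw [map_zero, Finsupp.zero_apply]
        exact (map_eq_zero σ).1 h2
      exact (Submodule.Quotient.mk_eq_zero R).1 h1
    · intro h
      apply LinearMap.ext
      intro y
      have h1 : π x = 0 := (Submodule.Quotient.mk_eq_zero R).2 h
      rw [hC, LinearMap.zero_apply]
      refine Finset.sum_eq_zero fun i _ => ?_
      rw [h1, map_zero, Finsupp.zero_apply, map_zero, zero_mul]

/-- an orthonormal basis of a complement of the radical -/
theorem exists_onb {A : Type*} [AddCommGroup A] [Module F A] [Finite A] (hne : σ ≠ RingHom.id F)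
    (hσσ : ∀ a, σ (σ a) = a) (D : A →ₛₗ[σ] A →ₗ[F] F) (hD : D.IsSymm)
    (W : Submodule F A) (hW : IsCompl (LinearMap.ker D) W) :
    ∃ b : Basis (Fin (finrank F W)) F W, ∀ i j, D (b i : A) (b j : A) = if i = j then 1 else 0 := by
  let DW : W →ₛₗ[σ] W →ₗ[F] F := LinearMap.mk₂'ₛₗ σ (RingHom.id F) (fun x y => D (x : A) (y : A))
    (fun x x' y => by rw [Submodule.coe_add, map_add, LinearMap.add_apply])
    (fun a x y => by rw [Submodule.coe_smul, map_smulₛₗ, LinearMap.smul_apply])
    (fun x y y' => by rw [Submodule.coe_add, map_add])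
    (fun a x y => by rw [Submodule.coe_smul, map_smul, RingHom.id_apply])
  have hS : DW.IsSymm := ⟨fun x y => hD.eq _ _⟩
  have hsep : DW.SeparatingLeft := by
    intro x hx
    have h1 : (x : A) ∈ LinearMap.ker D := by
      rw [LinearMap.mem_ker]
      apply LinearMap.ext
      intro y
      have h3 : y ∈ LinearMap.ker D ⊔ W := by rw [hW.sup_eq_top]; trivial
      obtain ⟨n, hn, w, hw, rfl⟩ := Submodule.mem_sup.1 h3
      have h4 : D (x : A) n = 0 := by
        rw [← hD.eq, LinearMap.mem_ker.1 hn, LinearMap.zero_apply, map_zero]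
      have h5 : D (x : A) w = 0 := hx ⟨w, hw⟩
      rw [map_add, h4, h5, add_zero]
      rfl
    have h2 : (x : A) ∈ LinearMap.ker D ⊓ W := ⟨h1, x.2⟩
    rw [hW.inf_eq_bot, Submodule.mem_bot] at h2
    exact Subtype.ext h2
  obtain ⟨b, hb⟩ := HermOrthonormal.exists_orthonormal_basis hne hσσ DW hS hsep
  exact ⟨b, fun i j => hb i j⟩

omit [Finite F] in
theorem form_add {A : Type*} [AddCommGroup A] [Module F A] (D : A →ₛₗ[σ] A →ₗ[F] F) (hD : D.IsSymm)
    (n n' w w' : A) (hn : n ∈ LinearMap.ker D) (hn' : n' ∈ LinearMap.ker D) : D (n + w) (n' + w') = D w w' := by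
  have h1 : D (n + w) = D w := by rw [map_add, LinearMap.mem_ker.1 hn, zero_add]
  have h2 : D w n' = 0 := by rw [← hD.eq n' w, LinearMap.mem_ker.1 hn', LinearMap.zero_apply, map_zero]
  rw [h1, map_add, h2, zero_add]

/-- hermitian forms of the same rank are isometric -/
theorem exists_isometry_of_rank {F E E' : Type*} [Field F] [Finite F] [AddCommGroup E] [Module F E] [Finite E]
    [AddCommGroup E'] [Module F E'] [Finite E'] {q : ℕ}
    {σ : F →+* F} (h2 : 2 ≤ q) (hF : Nat.card F = q ^ 2) (hσ : ∀ a, σ a = a ^ q)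
    (C : E →ₛₗ[σ] E →ₗ[F] F) (C' : E' →ₛₗ[σ] E' →ₗ[F] F) (hC : C.IsSymm) (hC' : C'.IsSymm)
    (hd : finrank F E = finrank F E') (hk : finrank F (LinearMap.ker C) = finrank F (LinearMap.ker C')) :
    ∃ g : E ≃ₗ[F] E', ∀ x y, C' (g x) (g y) = C x y := by
  have hσσ := sig_sig hF hσ
  have hne := sig_ne h2 hF hσ
  obtain ⟨W, hW⟩ := (LinearMap.ker C).exists_isCompl
  obtain ⟨W', hW'⟩ := (LinearMap.ker C').exists_isCompl
  obtain ⟨b, hb⟩ := exists_onb hne hσσ C hC W hW
  obtain ⟨b', hb'⟩ := exists_onb hne hσσ C' hC' W' hW'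
  have hWd : finrank F W = finrank F W' := by
    have h1 := Submodule.finrank_add_eq_of_isCompl hW
    have h3 := Submodule.finrank_add_eq_of_isCompl hW'
    omega
  let eW : W ≃ₗ[F] W' := b.equiv b' (finCongr hWd)
  have heW : ∀ i, eW (b i) = b' (finCongr hWd i) := fun i => b.equiv_apply i b' _
  let eN : LinearMap.ker C ≃ₗ[F] LinearMap.ker C' := LinearEquiv.ofFinrankEq _ _ hk
  have hwW : ∀ x y : W, C' (eW x : E') (eW y : E') = C (x : E) (y : E) := by
    intro x y
    have h1 : ∀ i, (C' (eW (b i) : E')).comp (W'.subtype.comp eW.toLinearMap) = (C (b i : E)).comp W.subtype := by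
      intro i
      refine b.ext fun j => ?_
      show C' (eW (b i) : E') (eW (b j) : E') = C (b i : E) (b j : E)
      rw [heW, heW, hb', hb]
      congr 1
      exact propext (finCongr hWd).injective.eq_iff
    have h2 : ∀ i, C' (eW (b i) : E') (eW y : E') = C (b i : E) (y : E) := fun i => LinearMap.congr_fun (h1 i) y
    let L : W →ₛₗ[σ] F :=
      { toFun := fun x => C' (eW x : E') (eW y : E')
        map_add' := fun x x' => by rw [map_add, Submodule.coe_add, map_add, LinearMap.add_apply]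
        map_smul' := fun a x => by rw [map_smul, Submodule.coe_smul, map_smulₛₗ, LinearMap.smul_apply] }
    let L' : W →ₛₗ[σ] F :=
      { toFun := fun x => C (x : E) (y : E)
        map_add' := fun x x' => by rw [Submodule.coe_add, map_add, LinearMap.add_apply]
        map_smul' := fun a x => by rw [Submodule.coe_smul, map_smulₛₗ, LinearMap.smul_apply] }
    have h3 : L = L' := b.ext h2
    exact LinearMap.congr_fun h3 x
  let g : E ≃ₗ[F] E' := (Submodule.prodEquivOfIsCompl _ _ hW).symm.trans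
    ((eN.prodCongr eW).trans (Submodule.prodEquivOfIsCompl _ _ hW'))
  have hg : ∀ (n : LinearMap.ker C) (w : W), g ((n : E) + w) = (eN n : E') + eW w := by
    intro n w
    have h1 : (Submodule.prodEquivOfIsCompl _ _ hW).symm ((n : E) + w) = (n, w) := by
      rw [LinearEquiv.symm_apply_eq]
      rfl
    show Submodule.prodEquivOfIsCompl _ _ hW' ((eN.prodCongr eW)
      ((Submodule.prodEquivOfIsCompl _ _ hW).symm ((n : E) + w))) = _
    rw [h1]
    rfl
  refine ⟨g, fun x y => ?_⟩
  have hx : x ∈ LinearMap.ker C ⊔ W := by rw [hW.sup_eq_top]; trivial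
  have hy : y ∈ LinearMap.ker C ⊔ W := by rw [hW.sup_eq_top]; trivial
  obtain ⟨n, hn, w, hw, rfl⟩ := Submodule.mem_sup.1 hx
  obtain ⟨n', hn', w', hw', rfl⟩ := Submodule.mem_sup.1 hy
  have e1 := hg ⟨n, hn⟩ ⟨w, hw⟩
  have e2 := hg ⟨n', hn'⟩ ⟨w', hw'⟩
  simp only at e1 e2
  rw [e1, e2]
  rw [form_add C hC _ _ _ _ hn hn', form_add C' hC' _ _ _ _ (eN ⟨n, hn⟩).2 (eN ⟨n', hn'⟩).2]
  exact hwW ⟨w, hw⟩ ⟨w', hw'⟩

end gen

section fld

variable {F K : Type*} [Field F] [Finite F] [Field K] [Finite K] [Algebra F K] {q : ℕ} {σ : F →+* F}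

/-- elements fixed by the Frobenius -/
theorem mem_of_pow {x : K} (hx : x ^ Nat.card F = x) : ∃ c : F, algebraMap F K c = x := by
  have := Fintype.ofFinite F
  have hx' : x ^ Fintype.card F = x := by rw [← Nat.card_eq_fintype_card]; exact hx
  have h1 : x ∈ (⊥ : IntermediateField F K) := by
    rw [IsGalois.mem_bot_iff_fixed]
    intro f
    obtain ⟨n, rfl⟩ := (FiniteField.bijective_frobeniusAlgEquivOfAlgebraic_pow F K).2 f
    simp only
    rw [AlgEquiv.coe_pow, FiniteField.coe_frobeniusAlgEquivOfAlgebraic_iterate]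
    show x ^ (Fintype.card F ^ (n : ℕ)) = x
    have h2 : ∀ k : ℕ, x ^ (Fintype.card F ^ k) = x := by
      intro k
      induction k with
      | zero => rw [pow_zero, pow_one]
      | succ k ih => rw [pow_succ, pow_mul, ih, hx']
    exact h2 _
  exact IntermediateField.mem_bot.1 h1

omit [Finite F] in
open IntermediateField in
/-- a subspace stable under `t` has dimension divisible by the degree of `t` -/
theorem finrank_dvd {t : K} {S : Submodule F K} (hS : ∀ x ∈ S, t * x ∈ S) : finrank F F⟮t⟯ ∣ finrank F S := by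
  have hint : IsIntegral F t := IsIntegral.of_finite F t
  have h1 : ∀ l : F⟮t⟯, ∀ x ∈ S, (l : K) * x ∈ S := by
    intro l x hx
    have h2 : (l : K) ∈ F⟮t⟯.toSubalgebra := l.2
    rw [IntermediateField.adjoin_simple_toSubalgebra_of_isAlgebraic hint.isAlgebraic,
      Algebra.adjoin_singleton_eq_range_aeval] at h2
    obtain ⟨P, hP⟩ := h2
    have h3 : ∀ Q : Polynomial F, (Polynomial.aeval t Q) * x ∈ S := by
      intro Q
      induction Q using Polynomial.induction_on' with
      | add p q hp hq => rw [map_add, add_mul]; exact S.add_mem hp hq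
      | monomial n a =>
        rw [Polynomial.aeval_monomial, mul_assoc, ← Algebra.smul_def]
        refine S.smul_mem _ ?_
        induction n with
        | zero => rw [pow_zero, one_mul]; exact hx
        | succ n ih => rw [pow_succ', mul_assoc]; exact hS _ ih
    have h4 : (Polynomial.aeval t P : K) = l := hP
    rw [← h4]
    exact h3 P
  let S' : Submodule F⟮t⟯ K :=
    { carrier := S
      add_mem' := fun ha hb => S.add_mem ha hb
      zero_mem' := S.zero_mem
      smul_mem' := fun l x hx => h1 l x hx }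
  have h2 := Module.finrank_mul_finrank F F⟮t⟯ S'
  let e : S' ≃ₗ[F] S :=
    { toFun := fun w => ⟨w.1, w.2⟩
      invFun := fun w => ⟨w.1, w.2⟩
      map_add' := fun _ _ => rfl
      map_smul' := fun _ _ => rfl
      left_inv := fun _ => rfl
      right_inv := fun _ => rfl }
  rw [← e.finrank_eq, ← h2]
  exact Dvd.intro _ rfl

open IntermediateField in
/-- a subspace of dimension `d` whose stabilizer in the multiplicative group consists of scalars -/
theorem exists_sub {d : ℕ} (hd1 : 1 ≤ d) (hd : d < finrank F K) :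
    ∃ R : Submodule F K, finrank F R = d ∧
      ∀ t : K, (∀ x ∈ R, t * x ∈ R) → ∃ c : F, algebraMap F K c = t := by
  let pb := Field.powerBasisOfFiniteOfSeparable F K
  have hdim : pb.dim = finrank F K := pb.finrank.symm
  set θ := pb.gen with hθ
  let S : ℕ → Submodule F K := fun e => Submodule.span F (Set.range fun i : Fin e => θ ^ (i : ℕ))
  have hSd : ∀ e, e ≤ finrank F K → finrank F (S e) = e := by
    intro e he
    have h1 : LinearIndependent F (fun i : Fin e => θ ^ (i : ℕ)) := by
      have h2 := pb.basis.linearIndependent.comp (Fin.castLE (hdim ▸ he)) (Fin.castLE_injective _)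
      have h3 : (fun i : Fin e => θ ^ (i : ℕ)) = pb.basis ∘ Fin.castLE (hdim ▸ he) := by
        funext i
        rw [Function.comp_apply, pb.basis_eq_pow]
        rfl
      rw [h3]
      exact h2
    show finrank F (Submodule.span F _) = e
    rw [finrank_span_eq_card h1, Fintype.card_fin]
  have hmem : ∀ e i, i < e → θ ^ i ∈ S e := fun e i hi => Submodule.subset_span ⟨⟨i, hi⟩, rfl⟩
  have hle : S d ≤ S (d + 1) := by
    show Submodule.span F _ ≤ _
    rw [Submodule.span_le]
    rintro _ ⟨i, rfl⟩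
    exact hmem _ _ (by have := i.2; omega)
  have hshift : ∀ x ∈ S d, θ * x ∈ S (d + 1) := by
    intro x hx
    have h1 : S d ≤ (S (d + 1)).comap (LinearMap.mulLeft F θ) := by
      show Submodule.span F _ ≤ _
      rw [Submodule.span_le]
      rintro _ ⟨i, rfl⟩
      show θ * θ ^ (i : ℕ) ∈ S (d + 1)
      rw [← pow_succ']
      exact hmem _ _ (by have := i.2; omega)
    exact h1 hx
  refine ⟨S d, hSd d hd.le, fun t ht => ?_⟩
  have ht' : ∀ x ∈ S (d + 1), t * x ∈ S (d + 1) := by
    intro x hx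
    have h1 : S (d + 1) ≤ (S (d + 1)).comap (LinearMap.mulLeft F t) := by
      show Submodule.span F _ ≤ _
      rw [Submodule.span_le]
      rintro _ ⟨i, rfl⟩
      show t * θ ^ (i : ℕ) ∈ S (d + 1)
      rcases Nat.lt_or_ge (i : ℕ) d with h | h
      · exact hle (ht _ (hmem _ _ h))
      · have h2 : (i : ℕ) = (d - 1) + 1 := by have := i.2; omega
        rw [h2, pow_succ', ← mul_assoc, mul_comm t, mul_assoc]
        exact hshift _ (ht _ (hmem _ _ (by omega)))
    exact h1 hx
  have h1 := finrank_dvd ht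
  have h2 := finrank_dvd ht'
  rw [hSd d hd.le] at h1
  rw [hSd (d + 1) hd] at h2
  have h3 : finrank F F⟮t⟯ = 1 := Nat.dvd_one.1 ((Nat.dvd_add_right h1).1 h2)
  have h4 := IntermediateField.finrank_eq_one_iff.1 h3
  have h5 : t ∈ (⊥ : IntermediateField F K) := IntermediateField.adjoin_simple_eq_bot_iff.1 h4
  exact IntermediateField.mem_bot.1 h5

omit [Finite K] in
theorem exists_frob (hF : Nat.card F = q ^ 2) : ∃ φ : K →+* K, ∀ x, φ x = x ^ q := by
  obtain ⟨p, hp⟩ := CharP.exists F
  have := Fintype.ofFinite F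
  obtain ⟨n, hpp, hn⟩ := FiniteField.card F p
  have hK : CharP K p := charP_of_injective_algebraMap (algebraMap F K).injective p
  have h1 : q ∣ p ^ (n : ℕ) := by
    rw [← hn, ← Nat.card_eq_fintype_card, hF]
    exact dvd_pow_self q (by norm_num)
  obtain ⟨k, -, hk⟩ := (Nat.dvd_prime_pow hpp).1 h1
  have := Fact.mk hpp
  have : ExpChar K p := .prime hpp
  exact ⟨iterateFrobenius K p k, fun x => by rw [iterateFrobenius_def, hk]⟩

theorem sig_trace (hF : Nat.card F = q ^ 2) (hσ : ∀ a, σ a = a ^ q) (z : K) :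
    σ (Algebra.trace F K z) = Algebra.trace F K (z ^ q) := by
  obtain ⟨φ, hφ⟩ := exists_frob (K := K) hF
  apply (algebraMap F K).injective
  rw [hσ, map_pow, FiniteField.algebraMap_trace_eq_sum_pow, FiniteField.algebraMap_trace_eq_sum_pow, ← hφ, map_sum]
  refine Finset.sum_congr rfl fun i _ => ?_
  rw [hφ, ← pow_mul, ← pow_mul, mul_comm]

theorem trace_pow (hF : Nat.card F = q ^ 2) (hσ : ∀ a, σ a = a ^ q) (z : K) :
    Algebra.trace F K (z ^ (q ^ 2)) = Algebra.trace F K z := by
  rw [sq, pow_mul, ← sig_trace hF hσ, ← sig_trace hF hσ, sig_sig hF hσ]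

theorem eq_zero_of_trace {w : K} (h : ∀ z, Algebra.trace F K (w * z) = 0) : w = 0 := by
  refine (traceForm_nondegenerate F K).1 w fun z => ?_
  rw [Algebra.traceForm_apply]
  exact h z

theorem exists_nondeg (h2 : 2 ≤ q) (hF : Nat.card F = q ^ 2) (hσ : ∀ a, σ a = a ^ q) (hm : 2 ≤ finrank F K) :
    ∃ C : K →ₛₗ[σ] K →ₗ[F] F, C.IsSymm ∧ LinearMap.ker C = ⊥ ∧
      ∀ t : K, (∀ x y, C (t * x) (t * y) = C x y) → ∃ c : F, algebraMap F K c = t := by
  obtain ⟨φ, hφ⟩ := exists_frob (K := K) hF
  have hsurj : Function.Surjective φ := Finite.surjective_of_injective φ.injective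
  have hcF : ∀ c : F, c ^ (q ^ 2) = c := by
    intro c
    rw [sq, pow_mul, ← hσ, ← hσ, sig_sig hF hσ]
  have hadd : ∀ x y : K, (x + y) ^ q = x ^ q + y ^ q := fun x y => by rw [← hφ, map_add, hφ, hφ]
  have hadd2 : ∀ x y : K, (x + y) ^ (q ^ 2) = x ^ (q ^ 2) + y ^ (q ^ 2) := fun x y => by
    rw [sq, pow_mul, pow_mul, pow_mul, hadd, hadd]
  obtain ⟨u, hu⟩ := IsCyclic.exists_ofOrder_eq_natCard (α := Kˣ)
  set a : K := (u : K) with ha
  have ha0 : a ≠ 0 := u.ne_zero
  let C : K →ₛₗ[σ] K →ₗ[F] F := LinearMap.mk₂'ₛₗ σ (RingHom.id F)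
    (fun x y => Algebra.trace F K ((a * y + a ^ q * y ^ (q ^ 2)) * x ^ q))
    (fun x x' y => by rw [hadd, mul_add, map_add])
    (fun c x y => by rw [smul_pow, mul_smul_comm, map_smul, hσ])
    (fun x y y' => by
      rw [hadd2, ← map_add]
      congr 1
      ring)
    (fun c x y => by
      rw [smul_pow, hcF, RingHom.id_apply, ← map_smul, mul_smul_comm, mul_smul_comm, ← smul_add, smul_mul_assoc])
  have hC : ∀ x y, C x y = Algebra.trace F K ((a * y + a ^ q * y ^ (q ^ 2)) * x ^ q) := fun _ _ => rfl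
  have hsymm : ∀ x y, σ (C x y) = C y x := by
    intro x y
    rw [hC, hC, sig_trace hF hσ, mul_pow, hadd, mul_pow, mul_pow, add_mul, map_add, add_mul, map_add, add_comm]
    congr 1
    · rw [← trace_pow hF hσ (a * x * y ^ q)]
      congr 1
      rw [mul_pow, mul_pow, ← pow_mul, ← pow_mul, ← pow_mul, ← pow_mul]
      have e1 : q * q = q ^ 2 := by ring
      have e2 : q * q ^ 2 = q ^ 2 * q := by ring
      rw [e1, e2]
      ring
    · congr 1
      rw [← pow_mul]
      have e1 : q * q = q ^ 2 := by ring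
      rw [e1]
      ring
  refine ⟨C, ⟨hsymm⟩, ?_, ?_⟩
  · rw [eq_bot_iff]
    intro x hx
    rw [LinearMap.mem_ker] at hx
    rw [Submodule.mem_bot]
    by_contra hx0
    have h3 : a * x + a ^ q * x ^ (q ^ 2) = 0 := by
      apply eq_zero_of_trace (F := F)
      intro z
      obtain ⟨y, rfl⟩ := hsurj z
      rw [hφ, ← hC, ← hsymm, hx, LinearMap.zero_apply, map_zero]
    set v : Kˣ := Units.mk0 x hx0 with hv
    have h4 : u ^ (2 * (q - 1)) * v ^ (2 * (q ^ 2 - 1)) = 1 := by
      have h5 : (a * x) ^ 2 = (a ^ q * x ^ (q ^ 2)) ^ 2 := by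
        have h6 : a * x = -(a ^ q * x ^ (q ^ 2)) := eq_neg_of_add_eq_zero_left h3
        rw [h6, neg_sq]
      have h6 : (u * v) ^ 2 * (u ^ (2 * (q - 1)) * v ^ (2 * (q ^ 2 - 1))) = (u * v) ^ 2 := by
        apply Units.ext
        push_cast
        rw [hv, Units.val_mk0, ← ha, h5]
        obtain ⟨k, rfl⟩ : ∃ k, q = k + 1 := ⟨q - 1, by omega⟩
        have e1 : (k + 1) ^ 2 - 1 = k ^ 2 + 2 * k := by
          have : (k + 1) ^ 2 = k ^ 2 + 2 * k + 1 := by ring
          omega
        have e2 : k + 1 - 1 = k := rfl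
        rw [e1, e2]
        have h7 : a ^ (k + 1) * x ^ (k + 1) ^ 2 = a * x * (a ^ k * x ^ (k ^ 2 + 2 * k)) := by ring
        have h8 : (a * x) ^ 2 * (a ^ k * x ^ (k ^ 2 + 2 * k)) ^ 2 = (a * x) ^ 2 := by
          rw [← mul_pow, ← h7, ← h5]
        have h9 : (a ^ k * x ^ (k ^ 2 + 2 * k)) ^ 2 = 1 := by
          have h10 : (a * x) ^ 2 ≠ 0 := pow_ne_zero _ (mul_ne_zero ha0 hx0)
          exact mul_left_cancel₀ h10 (by rw [h8, mul_one])
        have h10 : a ^ (2 * k) * x ^ (2 * (k ^ 2 + 2 * k)) = 1 := by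
          rw [← h9]
          ring
        rw [h10, mul_one]
      exact mul_eq_left.1 h6
    have hcK : Nat.card Kˣ = (q ^ 2) ^ finrank F K - 1 := by
      have := Fintype.ofFinite K
      have := Fintype.ofFinite F
      rw [Nat.card_units, Nat.card_eq_fintype_card, Module.card_eq_pow_finrank (K := F) (V := K),
        ← Nat.card_eq_fintype_card, hF]
    obtain ⟨M, hM⟩ : q ^ 2 - 1 ∣ Nat.card Kˣ := by
      rw [hcK]
      have := Nat.sub_dvd_pow_sub_pow (q ^ 2) 1 (finrank F K)
      rwa [one_pow] at this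
    have hMpos : 0 < M := by
      rcases Nat.eq_zero_or_pos M with h | h
      · exfalso
        rw [h, mul_zero] at hM
        exact Nat.card_pos.ne' hM
      · exact h
    have h5 : u ^ (2 * (q - 1) * M) = 1 := by
      have h6 := congrArg (fun z => z ^ M) h4
      simp only [mul_pow, one_pow] at h6
      rw [← pow_mul, ← pow_mul] at h6
      have h7 : v ^ (2 * (q ^ 2 - 1) * M) = 1 := by
        rw [mul_assoc, ← hM, mul_comm, pow_mul, pow_card_eq_one', one_pow]
      rwa [h7, mul_one] at h6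
    have h6 := orderOf_dvd_of_pow_eq_one h5
    rw [hu, hM] at h6
    have h7 := Nat.dvd_of_mul_dvd_mul_right hMpos h6
    have h8 := Nat.le_of_dvd (by omega) h7
    obtain ⟨k, rfl⟩ : ∃ k, q = k + 1 := ⟨q - 1, by omega⟩
    have e1 : (k + 1) ^ 2 = k ^ 2 + 2 * k + 1 := by ring
    have e2 : 0 < k ^ 2 := by
      apply Nat.pow_pos
      omega
    omega
  · intro t ht
    have h3 : ∀ y : K, (a * t ^ (q + 1) - a) * y + (a ^ q * t ^ (q ^ 2 + q) - a ^ q) * y ^ (q ^ 2) = 0 := by
      intro y
      apply eq_zero_of_trace (F := F)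
      intro z
      obtain ⟨x, rfl⟩ := hsurj z
      have h4 := ht x y
      rw [hC, hC, ← sub_eq_zero, ← map_sub] at h4
      rw [hφ, ← h4]
      congr 1
      ring
    have h4 := h3 1
    rw [mul_one, one_pow, mul_one] at h4
    have h5 : a * t ^ (q + 1) - a = 0 := by
      by_contra hA
      have h6 : ∀ y : K, y ^ Nat.card F = y := by
        intro y
        have h7 := h3 y
        have h8 : (a * t ^ (q + 1) - a) * (y - y ^ (q ^ 2)) = 0 := by
          linear_combination h7 - y ^ (q ^ 2) * h4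
        rw [hF]
        exact (sub_eq_zero.1 ((mul_eq_zero.1 h8).resolve_left hA)).symm
      have h7 : Function.Surjective (algebraMap F K) := fun y => mem_of_pow (h6 y)
      have h8 := Nat.card_le_card_of_surjective _ h7
      have := Fintype.ofFinite K
      have := Fintype.ofFinite F
      rw [Nat.card_eq_fintype_card (α := K), Module.card_eq_pow_finrank (K := F) (V := K),
        Nat.card_eq_fintype_card] at h8
      have h9 : 1 < Fintype.card F := Fintype.one_lt_card
      have h10 : Fintype.card F ^ 1 < Fintype.card F ^ finrank F K := Nat.pow_lt_pow_right h9 (by omega)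
      rw [pow_one] at h10
      omega
    have h6 : t ^ (q + 1) = 1 := by
      have h7 : a * (t ^ (q + 1) - 1) = 0 := by linear_combination h5
      exact sub_eq_zero.1 ((mul_eq_zero.1 h7).resolve_left ha0)
    apply mem_of_pow
    rw [hF]
    obtain ⟨k, rfl⟩ : ∃ k, q = k + 1 := ⟨q - 1, by omega⟩
    have e1 : (k + 1) ^ 2 = (k + 1 + 1) * k + 1 := by ring
    rw [e1, pow_succ, pow_mul, h6, one_pow, one_mul]

/-- FORM: hermitian forms of every rank on a field extension whose only isometries in `K` are scalars -/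
theorem exists_form_field {F K : Type*} [Field F] [Finite F] [Field K] [Finite K] [Algebra F K] {q : ℕ}
    {σ : F →+* F} (h2 : 2 ≤ q) (hF : Nat.card F = q ^ 2) (hσ : ∀ a, σ a = a ^ q) (r : ℕ) (hr : 1 ≤ r)
    (hr' : r ≤ finrank F K) : ∃ C : K →ₛₗ[σ] K →ₗ[F] F, C.IsSymm ∧
      finrank F (LinearMap.ker C) + r = finrank F K ∧
      ∀ t : K, t ≠ 0 → (∀ x y, C (t * x) (t * y) = C x y) → ∃ c : F, algebraMap F K c = t := by
  rcases Nat.lt_or_ge r (finrank F K) with h | h
  · obtain ⟨R, hR, hRt⟩ := exists_sub (F := F) (K := K) (d := finrank F K - r) (by omega) (by omega)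
    obtain ⟨C, hC, hker⟩ := exists_form_ker (sig_sig hF hσ) R
    refine ⟨C, hC, by rw [hker, hR]; omega, fun t ht0 ht => hRt t fun x hx => ?_⟩
    rw [← hker, LinearMap.mem_ker] at hx ⊢
    apply LinearMap.ext
    intro y
    have h3 := ht x (t⁻¹ * y)
    rw [← mul_assoc, mul_inv_cancel₀ ht0, one_mul, hx, LinearMap.zero_apply] at h3
    rw [h3]
    rfl
  · have hrm : r = finrank F K := le_antisymm hr' h
    rcases Nat.lt_or_ge 1 (finrank F K) with h1 | h1
    · obtain ⟨C, hC, hker, hCt⟩ := exists_nondeg (K := K) h2 hF hσ h1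
      exact ⟨C, hC, by rw [hker, finrank_bot, zero_add, hrm], fun t _ ht => hCt t ht⟩
    · obtain ⟨C, hC, hker⟩ := exists_form_ker (E := K) (sig_sig hF hσ) (⊥ : Submodule F K)
      refine ⟨C, hC, by rw [hker, finrank_bot, zero_add, hrm], fun t _ _ => ?_⟩
      apply mem_of_pow
      have h3 : Nat.card K = Nat.card F := by
        have := Fintype.ofFinite K
        have := Fintype.ofFinite F
        rw [Nat.card_eq_fintype_card, Nat.card_eq_fintype_card, Module.card_eq_pow_finrank (K := F) (V := K),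
          show finrank F K = 1 by omega, pow_one]
      rw [← h3]
      have := Fintype.ofFinite K
      rw [Nat.card_eq_fintype_card, FiniteField.pow_card]

end fld

end Cfsg.Agent.H118.CC
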